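import Groth.Agent.ProjOmega.Basic

/-!
Finite type algebras with projective differentials and geometrically reduced generic points are smooth.
-/

universe u

open scoped TensorProduct
open IsLocalRing

namespace Groth.Agent.GenSmooth

section Perfect

variable {k A : Type u} [Field k] [CommRing A] [Algebra k A] [Algebra.FiniteType k A] [PerfectField k]


/-- The rank at a generic point is the dimension of the component. -/
theorem ringKrullDim_quotient_eq_of_isField (P : Ideal A) [hP : P.IsPrime] (hmin : P ∈ minimalPrimes A)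
    (hF : IsField (Localization.AtPrime P)) :
    ringKrullDim (A ⧸ P) = (Module.rankAtStalk Ω[A⁄k] ⟨P, hP⟩ : ℕ) := by
  let L := Localization.AtPrime P
  have : IsNoetherianRing A := Algebra.FiniteType.isNoetherianRing k A
  letI : Field L := hF.toField
  obtain ⟨n, hn1, hn2⟩ := DimTrdeg.exists_trdeg_eq_ringKrullDim k (A ⧸ P)
  have : Algebra.EssFiniteType k L := inferInstance
  obtain ⟨s, hs, hsep⟩ := exists_isTranscendenceBasis_and_isSeparable_of_perfectField k L
  have hcard : Algebra.trdeg k L = n := by
    have hbij : Function.Bijective (IsScalarTower.toAlgHom k L P.ResidueField) :=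
      ⟨RingHom.injective (IsLocalRing.residue L), IsLocalRing.residue_surjective⟩
    rw [(AlgEquiv.ofBijective _ hbij).trdeg_eq, DimTrdeg.trdeg_fractionRing k (A ⧸ P) P.ResidueField, hn1]
  let e := (Finset.equivFin s).symm
  have hb : IsTranscendenceBasis k (fun i => ((e i : s) : L)) := hs.comp_equiv e
  have hr : Set.range (fun i => ((e i : s) : L)) = (s : Set L) := by
    ext x
    exact ⟨fun ⟨i, hi⟩ => hi ▸ (e i).2, fun hx => ⟨e.symm ⟨x, hx⟩, by simp⟩⟩
  have hsep' : Algebra.IsSeparable ↥(IntermediateField.adjoin k (Set.range fun i => ((e i : s) : L))) L :=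
    hr.symm ▸ hsep
  have hrank := Groth.Agent.S14436.result k L ⟨_, (IntermediateField.fg_top k L).choose_spec⟩ _ _ hb hsep'
  have hc : s.card = n := by
    have := hs.cardinalMk_eq_trdeg
    rw [hcard, Cardinal.mk_coe_finset] at this
    exact_mod_cast this
  rw [hn2, ProjOmega.rankAtStalk_kaehler P, hrank, hc]

/-- Smooth at the closed points. -/
theorem isSmoothAt_maximal_of_isField [Module.Projective A Ω[A⁄k]]
    (hA : ∀ (P : Ideal A) [P.IsPrime], P ∈ minimalPrimes A → IsField (Localization.AtPrime P))
    (m : Ideal A) [hm : m.IsMaximal] :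
    Algebra.IsSmoothAt k m := by
  have : IsNoetherianRing A := Algebra.FiniteType.isNoetherianRing k A
  let S := Localization.AtPrime m
  let κ := m.ResidueField
  let _ := Ideal.Quotient.field m
  have : Module.Finite k (A ⧸ m) := finite_of_finite_type_of_isJacobsonRing k _
  have : Module.Finite k κ := Module.Finite.of_surjective (IsScalarTower.toAlgHom k (A ⧸ m) κ).toLinearMap
    (Ideal.bijective_algebraMap_quotient_residueField m).2
  have : Algebra.IsSeparable k κ := inferInstance
  have : Algebra.IsGeometricallyReduced k κ :=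
    (Algebra.isGeometricallyReduced_field_iff _ _).2 (PurelyInsepRed.isReduced_tensor_of_perfectField _)
  refine (CotLib.isSmoothAt_iff_regular m).2 ?_
  have : IsNoetherianRing S := IsLocalization.isNoetherianRing m.primeCompl S inferInstance
  rw [IsRegularLocalRing.iff_finrank_cotangentSpace]
  refine le_antisymm ?_ ((ringKrullDim_le_spanFinrank_maximalIdeal S).trans
    (by rw [spanFinrank_maximalIdeal_eq_finrank_cotangentSpace]))
  have : Algebra.FormallyUnramified k κ := Algebra.FormallyUnramified.of_isSeparable k κ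
  have : Subsingleton Ω[κ⁄k] := inferInstance
  have : Algebra.FormallySmooth k (ResidueField S) := inferInstanceAs (Algebra.FormallySmooth k κ)
  have : Module.Finite (ResidueField S) Ω[ResidueField S⁄k] := inferInstanceAs (Module.Finite κ Ω[κ⁄k])
  have h := ComplDeriv.finrank_residue_kaehler_of_formallySmooth k S
  rw [show Module.finrank (ResidueField S) Ω[ResidueField S⁄k] = 0 from Module.finrank_zero_of_subsingleton (R := κ) (M := Ω[κ⁄k]),
    add_zero] at h
  have : Module.Projective S Ω[S⁄k] := Module.Projective.of_equiv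
    ((KaehlerDifferential.isBaseChange_of_formallyEtale k A S).equiv (S := S))
  have : Module.Free S Ω[S⁄k] := Module.free_of_flat_of_isLocalRing
  rw [Module.finrank_baseChange, ← ProjOmega.rankAtStalk_kaehler m] at h
  obtain ⟨P, hP, hPm⟩ := Ideal.exists_minimalPrimes_le (bot_le : (⊥ : Ideal A) ≤ m)
  have := hP.1.1
  have hrk := Module.rankAtStalk_eq_of_le_of_finite_of_flat' Ω[A⁄k] hPm
  rw [← h, ← hrk, ← ringKrullDim_quotient_eq_of_isField P hP (hA P hP)]
  obtain ⟨N, hN, hNh⟩ := ComodBasic.exists_height_eq_of_isMaximal k (A ⧸ P)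
  rw [hN]
  have hM : (m.map (Ideal.Quotient.mk P)).IsMaximal :=
    Ideal.IsMaximal.map_of_surjective_of_ker_le Ideal.Quotient.mk_surjective (by rwa [Ideal.mk_ker])
  rw [IsLocalization.AtPrime.ringKrullDim_eq_height m S]
  have hle : (N : ℕ∞) ≤ m.height := by
    have := hm.isPrime
    have := hM.isPrime
    have h1 := Order.height_le_height_apply_of_strictMono (PrimeSpectrum.comap (Ideal.Quotient.mk P))
      (RingHom.strictMono_comap_of_surjective Ideal.Quotient.mk_surjective) ⟨m.map (Ideal.Quotient.mk P), hM.isPrime⟩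
    rw [← PrimeSpectrum.height_eq_orderHeight, ← PrimeSpectrum.height_eq_orderHeight, hNh _ hM] at h1
    refine h1.trans_eq (congrArg Ideal.height ?_)
    show Ideal.comap _ _ = m
    rw [Ideal.comap_map_of_surjective _ Ideal.Quotient.mk_surjective, ← RingHom.ker_eq_comap_bot, Ideal.mk_ker, sup_eq_left.2 hPm]
  exact WithBot.coe_le_coe.2 hle

/-- Generically reduced with projective differentials over a perfect field is smooth. -/
theorem smooth_of_projective_of_isField [Module.Projective A Ω[A⁄k]]
    (hA : ∀ (P : Ideal A) [P.IsPrime], P ∈ minimalPrimes A → IsField (Localization.AtPrime P)) :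
    Algebra.Smooth k A := by
  have : Algebra.FinitePresentation k A := Algebra.FinitePresentation.of_finiteType.1 ‹_›
  refine ⟨Algebra.smoothLocus_eq_univ_iff.1 (Set.eq_univ_iff_forall.2 fun q => ?_), inferInstance⟩
  obtain ⟨m, hm, hqm⟩ := Ideal.exists_le_maximal q.asIdeal q.2.ne_top
  exact (PrimeSpectrum.le_iff_specializes q ⟨m, hm.isPrime⟩).1 hqm |>.mem_open Algebra.isOpen_smoothLocus
    (isSmoothAt_maximal_of_isField hA m)


end Perfect

section Geometric

variable (k : Type u) [Field k] (A : Type u) [CommRing A] [Algebra k A] [Algebra.FiniteType k A]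

attribute [local instance] Algebra.TensorProduct.rightAlgebra

theorem isReduced_atPrime_tensor (K : Type u) [Field K] [Algebra k K] (p : Ideal A) [p.IsPrime]
    [_root_.IsReduced (K ⊗[k] Localization.AtPrime p)]
    (Q : Ideal (K ⊗[k] A)) [Q.IsPrime]
    (hQ : Q.comap (Algebra.TensorProduct.includeRight : A →ₐ[k] K ⊗[k] A) = p) :
    _root_.IsReduced (Localization.AtPrime Q) := by
  let ψ : K ⊗[k] A →ₐ[K] K ⊗[k] Localization.AtPrime p :=
    Algebra.TensorProduct.map (AlgHom.id K K) (IsScalarTower.toAlgHom k A (Localization.AtPrime p))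
  letI : Algebra (K ⊗[k] A) (K ⊗[k] Localization.AtPrime p) := ψ.toRingHom.toAlgebra
  have : IsScalarTower K (K ⊗[k] A) (K ⊗[k] Localization.AtPrime p) :=
    .of_algebraMap_eq' ψ.comp_algebraMap.symm
  have : IsLocalization (p.primeCompl.map (Algebra.TensorProduct.includeRight (R := k) (A := K)))
      (K ⊗[k] Localization.AtPrime p) := by
    refine IsLocalization.tensorProduct_tensorProduct_right k K p.primeCompl (Localization.AtPrime p) ?_
    ext a
    simp [RingHom.algebraMap_toAlgebra, ψ]
  refine ⟨fun x ⟨n, hn⟩ => ?_⟩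
  obtain ⟨b, s, rfl⟩ := IsLocalization.exists_mk'_eq Q.primeCompl x
  rw [← IsLocalization.mk'_pow, IsLocalization.mk'_eq_zero_iff] at hn
  obtain ⟨t, ht⟩ := hn
  rw [IsLocalization.mk'_eq_zero_iff]
  have h0 : algebraMap (K ⊗[k] A) (K ⊗[k] Localization.AtPrime p) (↑t * b) = 0 := by
    refine IsReduced.eq_zero _ ⟨n + 1, ?_⟩
    rw [← map_pow, show (↑t * b) ^ (n + 1) = (↑t ^ n * b) * (↑t * b ^ n) by ring, ht, mul_zero, map_zero]
  obtain ⟨⟨_, r, hr, rfl⟩, hm⟩ := (IsLocalization.map_eq_zero_iff
    (p.primeCompl.map (Algebra.TensorProduct.includeRight (R := k) (A := K))) _ _).1 h0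
  refine ⟨⟨_, fun h => ?_⟩ * t, by rw [Submonoid.coe_mul, mul_assoc]; exact hm⟩
  exact hr (hQ ▸ Ideal.mem_comap.2 h)

theorem smooth_of_projective_of_generic [Module.Projective A Ω[A⁄k]]
    (h : ∀ (p : Ideal A) [p.IsPrime], p ∈ minimalPrimes A →
      Algebra.IsGeometricallyReduced k (Localization.AtPrime p)) : Algebra.Smooth k A := by
  let K := AlgebraicClosure k
  have : Module.Projective (K ⊗[k] A) Ω[(K ⊗[k] A)⁄K] :=
    Module.Projective.of_equiv (KaehlerDifferential.tensorKaehlerEquiv k K A (K ⊗[k] A))
  have : Module.Flat A (K ⊗[k] A) :=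
    Module.Flat.of_linearEquiv (Algebra.IsPushout.equiv k A K (K ⊗[k] A)).symm.toLinearEquiv
  have : Algebra.HasGoingDown A (K ⊗[k] A) := Algebra.HasGoingDown.of_flat
  have hs : Algebra.Smooth K (K ⊗[k] A) := by
    refine smooth_of_projective_of_isField fun Q _ hQ => ?_
    let p := Q.under A
    have hp : p ∈ minimalPrimes A := by
      refine ⟨⟨inferInstance, bot_le⟩, fun p' hp' hle => ?_⟩
      have := hp'.1
      obtain ⟨Q', hQ'le, hQ', hQ'over⟩ :=
        Ideal.exists_ideal_le_liesOver_of_le (S := K ⊗[k] A) Q (p := p') (q := p) hle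
      have := hQ.2 ⟨hQ', bot_le⟩ hQ'le
      exact (Ideal.comap_mono this).trans hQ'over.over.ge
    have := h p hp
    have := isReduced_atPrime_tensor k A K p Q rfl
    exact SmoothDense.isField_atPrime_of_minimal hQ
  have : Algebra.Smooth K (K ⊗[k] A) := hs
  exact Algebra.Smooth.of_smooth_tensorProduct_of_faithfullyFlat K

theorem smooth_iff_projective_and_generic :
    Algebra.Smooth k A ↔ Module.Projective A Ω[A⁄k] ∧ ∀ (p : Ideal A) [p.IsPrime], p ∈ minimalPrimes A →
      Algebra.IsGeometricallyReduced k (Localization.AtPrime p) := by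
  refine ⟨fun h => ⟨inferInstance, fun p _ hp => (SmoothDense.isSmoothAt_iff_geometricallyReduced hp).1 ?_⟩,
    fun ⟨h₁, h₂⟩ => smooth_of_projective_of_generic k A h₂⟩
  have := Algebra.smoothLocus_eq_univ_iff.2 h.formallySmooth
  exact Set.eq_univ_iff_forall.1 this ⟨p, inferInstance⟩

end Geometric

end Groth.Agent.GenSmooth
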